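import Mathlib
import Cfsg.Prelude.Def_Characters
import Cfsg.Agent.Lib.Helper5.Clifford

set_option autoImplicit false

namespace Cfsg.Agent.Lib.Helper5

open Cfsg Cfsg.Agent.Lib.Helper20
open scoped ComplexConjugate

section
variable {G : Type*} [Group G] [Fintype G]

theorem indFun_one (H : Subgroup G) (θ : H → ℂ) : indFun H θ 1 = (H.index : ℂ) * θ 1 := by
  change (Nat.card H : ℂ)⁻¹ * ∑ x : G, extendByZero H θ (x⁻¹ * 1 * x) = _
  have h1 : ∀ x : G, extendByZero H θ (x⁻¹ * 1 * x) = θ 1 := by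
    intro x
    have : x⁻¹ * 1 * x = ((1 : H) : G) := by simp
    rw [this]
    exact Function.Injective.extend_apply Subtype.val_injective θ 0 1
  simp_rw [h1]
  rw [Finset.sum_const, Finset.card_univ, nsmul_eq_mul, ← Nat.card_eq_fintype_card,
    Cfsg.Agent.Lib.Helper19.index_eq_div]
  field_simp

/-- every nonzero character has an irreducible constituent -/
theorem exists_constituent {χ : G → ℂ} (hχ : IsCharacter G χ) (h : χ 1 ≠ 0) :
    ∃ φ : G → ℂ, IsIrrCharacter G φ ∧ classInner χ φ ≠ 0 := by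
  classical
  obtain ⟨l, rfl⟩ := exists_multiset_of_isCharacter hχ
  have hl : l ≠ 0 := by
    rintro rfl
    simp at h
  obtain ⟨φ, hφ⟩ := Multiset.exists_mem_of_ne_zero hl
  refine ⟨φ, φ.2, ?_⟩
  rw [classInner_multiset_sum l φ]
  exact_mod_cast (Multiset.count_ne_zero.mpr hφ)

/-- degree comparison for a constituent -/
theorem degree_le_of_constituent {ψ χ : G → ℂ} (hψ : IsCharacter G ψ) (hχ : IsIrrCharacter G χ)
    (h : classInner ψ χ ≠ 0) {a b : ℕ} (ha : ψ 1 = a) (hb : χ 1 = b) : b ≤ a := by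
  obtain ⟨Δ, hΔ, rfl⟩ := exists_add_of_constituent hψ hχ h
  obtain ⟨m, hm⟩ := isCharacter_apply_one hΔ
  rw [Pi.add_apply, hb, hm] at ha
  have : b + m = a := by exact_mod_cast ha
  omega

theorem classInner_ne_zero_symm {φ ψ : G → ℂ} (h : classInner φ ψ ≠ 0) : classInner ψ φ ≠ 0 := by
  rw [← classInner_conj_symm]
  intro h'
  exact h ((map_eq_zero _).mp h')

end

end Cfsg.Agent.Lib.Helper5
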