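import Mathlib
import Cfsg.Prelude.Def_Characters
import Cfsg.Agent.Lib.Helper5.Clifford
import Cfsg.Agent.Lib.Helper5.IndDeg
import Cfsg.Agent.Lib.Helper19.LinChar

set_option autoImplicit false

namespace Cfsg.Agent.Lib.Helper5

open Cfsg Cfsg.Agent.Lib.Helper20
open scoped ComplexConjugate

section
variable {G : Type*} [Group G] {N : Subgroup G}

/-- the inertia group of a function on a normal subgroup -/
def inertia (hN : N.Normal) (χ : N → ℂ) : Subgroup G where
  carrier := {g | cjF hN χ g = χ}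
  one_mem' := cjF_one hN χ
  mul_mem' := by
    intro a b ha hb
    change cjF hN χ (a * b) = χ
    have ha' : cjF hN χ a = χ := ha
    have hb' : cjF hN χ b = χ := hb
    rw [← cjF_cjF, ha', hb']
  inv_mem' := by
    intro a ha
    change cjF hN χ a⁻¹ = χ
    have ha' : cjF hN χ a = χ := ha
    have h1 := cjF_cjF hN χ a a⁻¹
    rw [ha', mul_inv_cancel, cjF_one] at h1
    exact h1

theorem mem_inertia (hN : N.Normal) (χ : N → ℂ) (g : G) : g ∈ inertia hN χ ↔ cjF hN χ g = χ := Iff.rfl

theorem mem_inertia' (hN : N.Normal) (χ : N → ℂ) (g : G) :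
    g ∈ inertia hN χ ↔ ∀ n : N, χ ⟨g * n * g⁻¹, hN.conj_mem (n : G) n.2 g⟩ = χ n := by
  rw [mem_inertia]
  exact ⟨fun h n => congrFun h n, fun h => funext h⟩

theorem le_inertia (hN : N.Normal) {χ : N → ℂ} (hχ : IsClassFunction N χ) : N ≤ inertia hN χ := by
  intro h hh
  rw [mem_inertia']
  intro n
  exact hχ n ⟨h, hh⟩

/-- a linear character has values of norm one -/
theorem norm_linear_eq_one {K : Type*} [Group K] [Finite K] {lam : K → ℂ} (h : IsCharacter K lam)
    (h1 : lam 1 = 1) (a : K) : ‖lam a‖ = 1 := by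
  obtain ⟨f, rfl⟩ := Cfsg.Agent.Lib.Helper19.exists_hom_of_linear lam ⟨h, h1⟩
  apply Complex.norm_eq_one_of_pow_eq_one (n := orderOf a) _ (orderOf_pos a).ne'
  simp only [Cfsg.Agent.Lib.Helper19.homFun]
  rw [← Units.val_pow_eq_pow_val, ← map_pow, pow_orderOf_eq_one, map_one, Units.val_one]

end

section
variable {G : Type*} [Group G] [Fintype G] {N : Subgroup G} [Fintype N]

/-- Clifford for an invariant constituent: the restriction is a multiple of it -/
theorem clifford_invariant (hN : N.Normal) {θ : G → ℂ} (hθ : IsIrrCharacter G θ) {χ : N → ℂ}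
    (hχ : IsIrrCharacter N χ) (hconst : classInner (fun n : N => θ n) χ ≠ 0)
    (hinv : ∀ g : G, cjF hN χ g = χ) :
    (fun n : N => θ n) = classInner (fun n : N => θ n) χ • χ := by
  have h := clifford hN hθ hχ hconst
  have hset : {ψ : N → ℂ | ∃ g : G, ψ = cjF hN χ g} = {χ} := by
    ext ψ
    simp only [Set.mem_ofPred_eq, Set.mem_singleton_iff]
    constructor
    · rintro ⟨g, rfl⟩
      exact hinv g
    · rintro rfl
      exact ⟨1, (hinv 1).symm⟩
  rw [hset, finsum_mem_singleton] at h
  exact h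

end

end Cfsg.Agent.Lib.Helper5
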