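import Cfsg.Agent.Lib.Helper5.FrobChar
import Cfsg.Agent.Lib.Helper79.PermLemma
import Cfsg.Agent.Lib.Helper4.CharBasic

set_option autoImplicit false
open Cfsg
open scoped ComplexConjugate

namespace Cfsg.Agent.Lib.Helper5

open Cfsg.Agent.Lib.Helper82 Cfsg.Agent.Lib.Helper20 Cfsg.Agent.Lib.Helper79

section
variable {N : Type*} [Group N] [Finite N] {K : Subgroup N}

/-- Frobenius-like group, kernel `K` not necessarily abelian: the inertia group of a non-principal
irreducible character of `K` is `K` (Brauer permutation lemma). -/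
theorem inertia_eq_of_frob' (hK : K.Normal)
    (hC : ∀ k ∈ K, k ≠ 1 → Subgroup.centralizer ({k} : Set N) ≤ K) {θ : K → ℂ}
    (hθ : IsIrrCharacter K θ) (hθ1 : θ ≠ fun _ => 1) : inertia hK θ = K := by
  apply le_antisymm _ (le_inertia hK (isChar_isClassFunction (isIrr_isChar hθ)))
  intro g hg
  by_contra hgK
  apply hθ1
  rw [mem_inertia'] at hg
  have h1 := card_fixed_irr_eq (G := K) (fun k => ⟨g * k * g⁻¹, hK.conj_mem k k.2 g⟩)
    (fun χ hχ => isIrrCharacter_cjF hK hχ g) (fun C => C = ConjClasses.mk 1) (by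
      intro k
      rw [ConjClasses.mk_eq_mk_iff_isConj, isConj_one_left]
      constructor
      · rintro rfl
        have : (⟨g * ((1 : K) : N) * g⁻¹, hK.conj_mem _ (1 : K).2 g⟩ : K) = 1 := by
          apply Subtype.ext
          simp
        rw [this]
      · intro h
        by_contra hk1
        obtain ⟨c, hc⟩ := isConj_iff.mp h
        have h2 : (c : N) * (g * k * g⁻¹) * (c : N)⁻¹ = k := congrArg Subtype.val hc
        have hk1' : (k : N) ≠ 1 := fun h => hk1 (Subtype.ext h)
        have h3 : (c : N) * g ∈ K := by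
          apply hC k k.2 hk1'
          rw [Subgroup.mem_centralizer_singleton_iff]
          calc (c : N) * g * k = ((c : N) * (g * k * g⁻¹) * (c : N)⁻¹) * ((c : N) * g) := by group
            _ = k * ((c : N) * g) := by rw [h2]
        apply hgK
        have h4 : g = (c : N)⁻¹ * ((c : N) * g) := by group
        rw [h4]
        exact mul_mem (inv_mem c.2) h3)
  have h2 : Nat.card {C : ConjClasses K // C = ConjClasses.mk 1} = 1 := by
    rw [Nat.card_eq_one_iff_unique]
    exact ⟨⟨fun a b => Subtype.ext (a.2.trans b.2.symm)⟩, ⟨⟨_, rfl⟩⟩⟩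
  rw [h2, Nat.card_eq_one_iff_unique] at h1
  obtain ⟨hsub, -⟩ := h1
  have h3 := hsub.elim
    (⟨⟨θ, hθ⟩, hg⟩ : {χ : IrrCharacter K // ∀ k : K,
      (χ : K → ℂ) ⟨g * k * g⁻¹, hK.conj_mem k k.2 g⟩ = (χ : K → ℂ) k})
    ⟨⟨fun _ => 1, Cfsg.Agent.Lib.Helper4.isIrrCharacter_one⟩, fun _ => rfl⟩
  exact congrArg (fun x => (x.1 : K → ℂ)) h3

theorem indFun_irr_of_frob' [Fintype N] (hK : K.Normal)
    (hC : ∀ k ∈ K, k ≠ 1 → Subgroup.centralizer ({k} : Set N) ≤ K) {lam : K → ℂ}
    (hl : IsIrrCharacter K lam) (hl1 : lam ≠ fun _ => 1) : IsIrrCharacter N (indFun K lam) := by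
  rw [isIrrCharacter_iff]
  refine ⟨Cfsg.Agent.Lib.Helper19.isCharacter_indFun K lam (isIrr_isChar hl), ?_⟩
  have h1 := @Cfsg.Agent.S0193.result N _ _ K hK lam hl
  have h2 : Nat.card {g : N // ∀ h : K, lam ⟨g * h * g⁻¹, hK.conj_mem h h.2 g⟩ = lam h} =
      Nat.card K := by
    have h3 := inertia_eq_of_frob' hK hC hl hl1
    rw [← Nat.card_congr (Equiv.subtypeEquivRight (fun g => mem_inertia' hK lam g))]
    change Nat.card (inertia hK lam) = _
    rw [h3]
  rw [h2] at h1
  have h0 : (Nat.card K : ℂ) ≠ 0 := by exact_mod_cast Nat.card_pos.ne'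
  exact mul_left_cancel₀ h0 (by rw [h1, mul_one])

theorem exists_eq_indFun_of_frob' [Fintype N] (hK : K.Normal)
    (hC : ∀ k ∈ K, k ≠ 1 → Subgroup.centralizer ({k} : Set N) ≤ K) {χ : N → ℂ}
    (hχ : IsIrrCharacter N χ) (hrel : ∃ k ∈ K, χ k ≠ χ 1) :
    ∃ lam : K → ℂ, IsIrrCharacter K lam ∧ (lam ≠ fun _ => 1) ∧ χ = indFun K lam := by
  classical
  have hres : IsCharacter K (fun k : K => χ k) := isCharacter_restrict (isIrr_isChar hχ) K
  obtain ⟨lam, hl, hc⟩ := exists_constituent hres (IsIrrCharacter.one_ne_zero hχ)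
  have hl1 : lam ≠ fun _ => 1 := by
    rintro rfl
    obtain ⟨k, hk, hne⟩ := hrel
    apply hne
    have h1 := clifford_invariant hK hχ hl hc (fun g => by funext n; rfl)
    have h2 := congrFun h1 ⟨k, hk⟩
    have h3 := congrFun h1 1
    simp only [Pi.smul_apply, smul_eq_mul, mul_one] at h2 h3
    rw [h2]
    exact h3.symm
  refine ⟨lam, hl, hl1, ?_⟩
  have hirr := indFun_irr_of_frob' hK hC hl hl1
  by_contra hne
  have h1 := classInner_irr_ne hirr hχ (fun h => hne h.symm)
  rw [Cfsg.Agent.Lib.Helper19.frobenius_reciprocity K lam χ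
    (isChar_isClassFunction (isIrr_isChar hχ))] at h1
  exact classInner_ne_zero_symm hc h1

theorem frob_vanish' (hK : K.Normal)
    (hC : ∀ k ∈ K, k ≠ 1 → Subgroup.centralizer ({k} : Set N) ≤ K) {χ : N → ℂ}
    (hχ : IsIrrCharacter N χ) (hrel : ∃ k ∈ K, χ k ≠ χ 1) : ∀ x : N, x ∉ K → χ x = 0 := by
  have := Fintype.ofFinite N
  obtain ⟨lam, hl, -, rfl⟩ := exists_eq_indFun_of_frob' hK hC hχ hrel
  exact fun x hx => indFun_eq_zero_of_not_mem hK lam hx

/-- The induced character of a non-principal `θ ∈ Irr(K)` does not have `K` in its kernel. -/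
theorem indFun_relevant [Fintype N] (hK : K.Normal)
    (hC : ∀ k ∈ K, k ≠ 1 → Subgroup.centralizer ({k} : Set N) ≤ K) {lam : K → ℂ}
    (hl : IsIrrCharacter K lam) (hl1 : lam ≠ fun _ => 1) :
    ∃ k ∈ K, indFun K lam k ≠ indFun K lam 1 := by
  classical
  by_contra hcon
  push Not at hcon
  have hirr := indFun_irr_of_frob' hK hC hl hl1
  have h1 := classInner_irr_self hirr
  rw [Cfsg.Agent.Lib.Helper19.frobenius_reciprocity K lam _
    (isChar_isClassFunction (isIrr_isChar hirr))] at h1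
  have h2 : (fun h : K => indFun K lam h) = (indFun K lam 1) • (fun _ : K => (1 : ℂ)) := by
    funext h
    rw [hcon h h.2]
    simp
  rw [h2, classInner_smul_right,
    classInner_irr_ne hl Cfsg.Agent.Lib.Helper4.isIrrCharacter_one hl1, mul_zero] at h1
  exact zero_ne_one h1

end

end Cfsg.Agent.Lib.Helper5
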