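import Cfsg.Agent.Lib.Helper5.FrobChar2
import Cfsg.Agent.Lib.Helper32.Isometry
import Cfsg.Agent.Lib.Helper32.GenChar
import Cfsg.Agent.Lib.Helper20.CharComplete

set_option autoImplicit false
open Cfsg
open scoped ComplexConjugate

namespace Cfsg.Agent.Lib.Helper5

open Cfsg.Agent.Lib.Helper82 Cfsg.Agent.Lib.Helper20 Cfsg.Agent.Lib.Helper32

section
variable {N : Type*} [Group N] [Fintype N]

/-- A class function whose multiplicities on the characters not containing `K` in their kernel are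
proportional to the degrees is constant on the non-identity elements of `K`. -/
theorem const_of_proportional (K : Subgroup N) {f : N → ℂ} (hf : IsClassFunction N f) (c : ℂ)
    (hc : ∀ η : N → ℂ, IsIrrCharacter N η → (∃ k ∈ K, η k ≠ η 1) → classInner f η = c * η 1)
    {a b : N} (ha : a ∈ K) (hb : b ∈ K) (ha1 : a ≠ 1) (hb1 : b ≠ 1) : f a = f b := by
  classical
  have := Cfsg.Agent.Lib.Helper82.finite_irrCharacter (G := N)
  have := Fintype.ofFinite (IrrCharacter N)
  have hexp := eq_sum_classInner_smul hf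
  have h1 : ∀ x : N, f x = ∑ χ : IrrCharacter N, classInner f (χ : N → ℂ) * (χ : N → ℂ) x := by
    intro x
    conv_lhs => rw [hexp]
    rw [Finset.sum_apply]
    rfl
  have h2 : ∀ χ : IrrCharacter N, classInner f (χ : N → ℂ) * (χ : N → ℂ) a -
      classInner f (χ : N → ℂ) * (χ : N → ℂ) b =
      c * ((χ : N → ℂ) a * (χ : N → ℂ) 1) - c * ((χ : N → ℂ) b * (χ : N → ℂ) 1) := by
    intro χ
    by_cases hrel : ∃ k ∈ K, (χ : N → ℂ) k ≠ (χ : N → ℂ) 1
    · rw [hc χ χ.2 hrel]; ring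
    · push Not at hrel
      rw [hrel a ha, hrel b hb]; ring
  have h3 := finsum_irr_mul_one ha1
  have h4 := finsum_irr_mul_one hb1
  rw [finsum_eq_sum_of_fintype] at h3 h4
  rw [← sub_eq_zero, h1 a, h1 b, ← Finset.sum_sub_distrib, Finset.sum_congr rfl (fun χ _ => h2 χ),
    Finset.sum_sub_distrib, ← Finset.mul_sum, ← Finset.mul_sum, h3, h4]
  ring

end

section
variable {G : Type*} [Group G] [Fintype G] {N : Subgroup G} [Fintype N] {S : Set (N → ℂ)}
  {star : (N → ℂ) → (G → ℂ)}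

theorem star_signed (hS : ∀ χ ∈ S, IsIrrCharacter N χ)
    (hstar : IsLinearIsometryOn (zspan S) star) {χ : N → ℂ} (hχ : χ ∈ S) :
    IsIrrCharacter G (star χ) ∨ IsIrrCharacter G (-star χ) := by
  apply genChar_norm_one (hstar.2.2.2 χ (zspan_of_mem hχ))
  rw [hstar.2.2.1 χ (zspan_of_mem hχ) χ (zspan_of_mem hχ), classInner_irr_self (hS χ hχ)]

theorem star_ortho (hS : ∀ χ ∈ S, IsIrrCharacter N χ)
    (hstar : IsLinearIsometryOn (zspan S) star) {χ ξ : N → ℂ} (hχ : χ ∈ S) (hξ : ξ ∈ S)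
    (hne : χ ≠ ξ) : classInner (star χ) (star ξ) = 0 := by
  rw [hstar.2.2.1 χ (zspan_of_mem hχ) ξ (zspan_of_mem hξ),
    classInner_irr_ne (hS χ hχ) (hS ξ hξ) hne]

theorem star_self (hS : ∀ χ ∈ S, IsIrrCharacter N χ)
    (hstar : IsLinearIsometryOn (zspan S) star) {χ : N → ℂ} (hχ : χ ∈ S) :
    classInner (star χ) (star χ) = 1 := by
  rw [hstar.2.2.1 χ (zspan_of_mem hχ) χ (zspan_of_mem hχ), classInner_irr_self (hS χ hχ)]

/-- the basic degree-zero combination and its image -/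
theorem star_comb (hstar : IsLinearIsometryOn (zspan S) star)
    (hext : ∀ α ∈ zspanOn S ({1}ᶜ : Set N), star α = indFun N α)
    {χ ξ : N → ℂ} (hχ : χ ∈ S) (hξ : ξ ∈ S) {dχ dξ : ℤ} (h1 : χ 1 = dχ) (h2 : ξ 1 = dξ) :
    indFun N (dξ • χ - dχ • ξ) = dξ • star χ - dχ • star ξ := by
  have hmem : dξ • χ - dχ • ξ ∈ zspanOn S ({1}ᶜ : Set N) := by
    rw [mem_zspanOn_one]
    refine ⟨(Submodule.span ℤ S).sub_mem
      ((Submodule.span ℤ S).smul_mem _ (Submodule.subset_span hχ))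
      ((Submodule.span ℤ S).smul_mem _ (Submodule.subset_span hξ)), ?_⟩
    rw [Pi.sub_apply, Pi.smul_apply, Pi.smul_apply, h1, h2, zsmul_eq_mul, zsmul_eq_mul]
    ring
  rw [← hext _ hmem]
  have hM : IsLinearIsometryOn ((Submodule.span ℤ S : Submodule ℤ (N → ℂ)) : Set (N → ℂ)) star :=
    hstar
  rw [iso_map_sub hM ((Submodule.span ℤ S).smul_mem _ (Submodule.subset_span hχ))
    ((Submodule.span ℤ S).smul_mem _ (Submodule.subset_span hξ)),
    iso_map_zsmul hM (Submodule.subset_span hχ), iso_map_zsmul hM (Submodule.subset_span hξ)]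

theorem star_reciprocity (hstar : IsLinearIsometryOn (zspan S) star)
    (hext : ∀ α ∈ zspanOn S ({1}ᶜ : Set N), star α = indFun N α)
    {χ ξ : N → ℂ} (hχ : χ ∈ S) (hξ : ξ ∈ S) {dχ dξ : ℤ} (h1 : χ 1 = dχ) (h2 : ξ 1 = dξ)
    {ψ : G → ℂ} (hψ : IsClassFunction G ψ) :
    (dξ : ℂ) * classInner (star χ) ψ - dχ * classInner (star ξ) ψ =
      dξ * classInner χ (fun n : N => ψ n) - dχ * classInner ξ (fun n : N => ψ n) := by
  have h := congrArg (fun f => classInner f ψ) (star_comb hstar hext hχ hξ h1 h2)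
  rw [Cfsg.Agent.Lib.Helper19.frobenius_reciprocity N _ ψ hψ, classInner_sub_left,
    classInner_sub_left, classInner_zsmul_left, classInner_zsmul_left, classInner_zsmul_left,
    classInner_zsmul_left] at h
  exact h.symm

end

end Cfsg.Agent.Lib.Helper5
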