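import Cfsg.Agent.Lib.Helper5.Dihedral

set_option autoImplicit false

namespace Cfsg.Agent.Lib.Helper5

section DihIso
variable {G : Type*} [Group G]

/-- power of `ρ` by a residue modulo its order -/
noncomputable def zp (ρ : G) (i : ZMod (orderOf ρ)) : G := ρ ^ (i.cast : ℤ)

theorem zp_intCast (ρ : G) (k : ℤ) : zp ρ (k : ZMod (orderOf ρ)) = ρ ^ k := by
  unfold zp
  rw [zpow_eq_zpow_iff_modEq, ← ZMod.intCast_eq_intCast_iff]
  simp

theorem zp_surj (ρ : G) (i : ZMod (orderOf ρ)) : ∃ k : ℤ, i = (k : ZMod (orderOf ρ)) :=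
  ⟨i.cast, by simp⟩

theorem zp_add (ρ : G) (i j : ZMod (orderOf ρ)) : zp ρ (i + j) = zp ρ i * zp ρ j := by
  obtain ⟨a, rfl⟩ := zp_surj ρ i
  obtain ⟨b, rfl⟩ := zp_surj ρ j
  rw [← Int.cast_add, zp_intCast, zp_intCast, zp_intCast, zpow_add]

theorem zp_sub (ρ : G) (i j : ZMod (orderOf ρ)) : zp ρ (i - j) = zp ρ i * (zp ρ j)⁻¹ := by
  obtain ⟨a, rfl⟩ := zp_surj ρ i
  obtain ⟨b, rfl⟩ := zp_surj ρ j
  rw [← Int.cast_sub, zp_intCast, zp_intCast, zp_intCast, zpow_sub]

theorem zp_zero (ρ : G) : zp ρ 0 = 1 := by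
  have := zp_intCast ρ 0
  simpa using this

theorem zp_one (ρ : G) : zp ρ 1 = ρ := by
  have := zp_intCast ρ 1
  simpa using this

theorem zp_eq_one (ρ : G) (i : ZMod (orderOf ρ)) (h : zp ρ i = 1) : i = 0 := by
  obtain ⟨a, rfl⟩ := zp_surj ρ i
  rw [zp_intCast] at h
  rw [ZMod.intCast_zmod_eq_zero_iff_dvd]
  exact orderOf_dvd_iff_zpow_eq_one.mpr h

variable {x y : G}

theorem dih_comm_zp (hx : orderOf x = 2) (hy : orderOf y = 2) (i : ZMod (orderOf (x * y))) :
    zp (x * y) i * x = x * (zp (x * y) i)⁻¹ := by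
  obtain ⟨a, rfl⟩ := zp_surj _ i
  rw [zp_intCast, ← zpow_neg, dih_comm hx hy, neg_neg]

/-- the homomorphism from the dihedral group attached to two involutions -/
noncomputable def dihHom (hx : orderOf x = 2) (hy : orderOf y = 2) :
    DihedralGroup (orderOf (x * y)) →* G where
  toFun d := match d with
    | .r i => zp (x * y) i
    | .sr i => x * zp (x * y) i
  map_one' := by
    rw [DihedralGroup.one_def]
    exact zp_zero _
  map_mul' := by
    rintro (i | i) (j | j)
    · simp only [DihedralGroup.r_mul_r]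
      exact zp_add _ _ _
    · simp only [DihedralGroup.r_mul_sr]
      rw [← mul_assoc, dih_comm_zp hx hy, zp_sub, mul_assoc]
      congr 1
      obtain ⟨a, rfl⟩ := zp_surj _ i
      obtain ⟨b, rfl⟩ := zp_surj _ j
      rw [zp_intCast, zp_intCast, ← zpow_neg, ← zpow_add, ← zpow_add, add_comm]
    · simp only [DihedralGroup.sr_mul_r]
      rw [zp_add, mul_assoc]
    · simp only [DihedralGroup.sr_mul_sr]
      rw [mul_assoc, ← mul_assoc (zp (x * y) i), dih_comm_zp hx hy, mul_assoc, ← mul_assoc x x,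
        mul_self_of_order_two hx, one_mul, zp_sub]
      obtain ⟨a, rfl⟩ := zp_surj _ i
      obtain ⟨b, rfl⟩ := zp_surj _ j
      rw [zp_intCast, zp_intCast, ← zpow_neg, ← zpow_add, ← zpow_add, add_comm]

theorem dihHom_r (hx : orderOf x = 2) (hy : orderOf y = 2) (i : ZMod (orderOf (x * y))) :
    dihHom hx hy (.r i) = zp (x * y) i := rfl

theorem dihHom_sr (hx : orderOf x = 2) (hy : orderOf y = 2) (i : ZMod (orderOf (x * y))) :
    dihHom hx hy (.sr i) = x * zp (x * y) i := rfl

theorem dihHom_injective (hx : orderOf x = 2) (hy : orderOf y = 2) :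
    Function.Injective (dihHom hx hy) := by
  rw [injective_iff_map_eq_one]
  rintro (i | i) h
  · rw [dihHom_r] at h
    rw [zp_eq_one _ _ h, DihedralGroup.r_zero]
  · exfalso
    rw [dihHom_sr] at h
    apply dih_x_not_mem hx hy
    have h1 : x = (zp (x * y) i)⁻¹ := eq_inv_of_mul_eq_one_left h
    have h2 : (zp (x * y) i)⁻¹ ∈ Subgroup.zpowers (x * y) :=
      inv_mem (Subgroup.zpow_mem_zpowers _ _)
    rwa [← h1] at h2

theorem dihHom_range (hx : orderOf x = 2) (hy : orderOf y = 2) :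
    (dihHom hx hy).range = Subgroup.closure ({x, y} : Set G) := by
  apply le_antisymm
  · rintro _ ⟨(i | i), rfl⟩
    · rw [dihHom_r]
      exact Subgroup.zpow_mem _ dih_r_mem _
    · rw [dihHom_sr]
      exact mul_mem dih_x_mem (Subgroup.zpow_mem _ dih_r_mem _)
  · rw [Subgroup.closure_le]
    rintro z (rfl | hz)
    · exact ⟨.sr 0, by rw [dihHom_sr, zp_zero, mul_one]⟩
    · rw [Set.mem_singleton_iff] at hz
      subst hz
      exact ⟨.sr 1, by rw [dihHom_sr, zp_one, ← mul_assoc, mul_self_of_order_two hx, one_mul]⟩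

/-- two involutions generate a dihedral group -/
noncomputable def dihEquiv (hx : orderOf x = 2) (hy : orderOf y = 2) :
    ↥(Subgroup.closure ({x, y} : Set G)) ≃* DihedralGroup (orderOf (x * y)) :=
  ((MonoidHom.ofInjective (dihHom_injective hx hy)).trans
    (MulEquiv.subgroupCongr (dihHom_range hx hy))).symm

theorem dih_card (hx : orderOf x = 2) (hy : orderOf y = 2) :
    Nat.card ↥(Subgroup.closure ({x, y} : Set G)) = 2 * orderOf (x * y) := by
  rw [Nat.card_congr (dihEquiv hx hy).toEquiv, DihedralGroup.nat_card]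

end DihIso

end Cfsg.Agent.Lib.Helper5
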