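import Cfsg.Prelude.Def_Transfer
import Cfsg.Agent.Lib.Helper15.Repl
import Cfsg.Agent.Lib.Helper3.PGroup
import Cfsg.Agent.Lib.Helper1.Coprime

set_option autoImplicit false
set_option linter.unusedSectionVars false

namespace Cfsg.Agent.Lib.Helper5

open scoped commutatorElement

section ES
variable {Q : Type*} [Group Q] [Finite Q] {p : ℕ} [Fact p.Prime]

theorem es_comm_mem_center (hE : Cfsg.IsExtraspecial p Q) (x y : Q) :
    x * y * x⁻¹ * y⁻¹ ∈ Subgroup.center Q := by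
  rw [← hE.1.2.2, commutator_def]
  exact Subgroup.commutator_mem_commutator (Subgroup.mem_top x) (Subgroup.mem_top y)

theorem es_center_pow (hE : Cfsg.IsExtraspecial p Q) {k : Q} (hk : k ∈ Subgroup.center Q) :
    k ^ p = 1 := by
  have := pow_card_eq_one' (G := Subgroup.center Q) (x := ⟨k, hk⟩)
  rw [hE.2] at this
  exact congrArg Subtype.val this

theorem es_mul_pow (hp : p ≠ 2) (hE : Cfsg.IsExtraspecial p Q) (x y : Q) :
    (x * y) ^ p = x ^ p * y ^ p := by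
  have hpp : p.Prime := Fact.out
  obtain ⟨k, hk⟩ : ∃ k : Q, k = y⁻¹ * x⁻¹ * y⁻¹⁻¹ * x⁻¹⁻¹ := ⟨_, rfl⟩
  have hkc : k ∈ Subgroup.center Q := hk ▸ es_comm_mem_center hE _ _
  have hkp : k ^ p = 1 := es_center_pow hE hkc
  have c := Subgroup.mem_center_iff.mp hkc
  rw [Cfsg.Agent.Lib.Helper15.Repl.mul_pow_of_central (k := k) (by rw [hk]; group) (c x).symm
    (c y).symm p]
  obtain ⟨j, hj⟩ := hpp.dvd_choose_self (k := 2) (by norm_num)
    (lt_of_le_of_ne hpp.two_le (Ne.symm hp))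
  rw [hj, pow_mul, hkp, one_pow, mul_one]

theorem es_pow_mem_center (hE : Cfsg.IsExtraspecial p Q) (x : Q) : x ^ p ∈ Subgroup.center Q := by
  rw [← hE.1.2.1]
  exact Cfsg.Agent.Lib.Helper3.pow_p_mem_frattini hE.1.1 x

/-- In a group of prime order, any nontrivial element generates. -/
theorem es_center_zpowers (hE : Cfsg.IsExtraspecial p Q) {s t : Q} (hs : s ∈ Subgroup.center Q)
    (ht : t ∈ Subgroup.center Q) (hs1 : s ≠ 1) : t ∈ Subgroup.zpowers s := by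
  have h := mem_zpowers_of_prime_card (G := Subgroup.center Q) (g := ⟨s, hs⟩) (g' := ⟨t, ht⟩) hE.2
    (by intro h; exact hs1 (congrArg Subtype.val h))
  obtain ⟨i, hi⟩ := Subgroup.mem_zpowers_iff.mp h
  exact Subgroup.mem_zpowers_iff.mpr ⟨i, by simpa using congrArg Subtype.val hi⟩

/-- The subgroup of elements of order dividing `p`. -/
theorem es_exists_E (hp : p ≠ 2) (hE : Cfsg.IsExtraspecial p Q) (hcard : Nat.card Q = p ^ 3)
    (hexp : Monoid.exponent Q = p ^ 2) :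
    ∃ E : Subgroup Q, (∀ x, x ∈ E ↔ x ^ p = 1) ∧ Nat.card E = p ^ 2 := by
  have hpp : p.Prime := Fact.out
  let π : Q →* Subgroup.center Q :=
    { toFun := fun x => ⟨x ^ p, es_pow_mem_center hE x⟩
      map_one' := by ext; simp
      map_mul' := fun x y => by ext; simpa using es_mul_pow hp hE x y }
  have hmem : ∀ x, x ∈ π.ker ↔ x ^ p = 1 := by
    intro x
    rw [MonoidHom.mem_ker]
    constructor
    · intro h; exact congrArg Subtype.val h
    · intro h; ext; exact h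
  refine ⟨π.ker, hmem, ?_⟩
  have hne : π.ker ≠ ⊤ := by
    intro h
    have h1 : Monoid.exponent Q ∣ p := by
      apply Monoid.exponent_dvd_of_forall_pow_eq_one
      intro x
      exact (hmem x).mp (h ▸ Subgroup.mem_top x)
    rw [hexp] at h1
    have := Nat.le_of_dvd hpp.pos h1
    nlinarith [hpp.two_le]
  have hidx : π.ker.index = p := by
    rw [Subgroup.index_ker]
    have h1 : Nat.card π.range ∣ p := by
      rw [← hE.2]; exact Subgroup.card_subgroup_dvd_card _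
    rcases (Nat.dvd_prime hpp).mp h1 with h | h
    · exfalso
      apply hne
      rw [← Subgroup.index_eq_one, Subgroup.index_ker, h]
    · exact h
  have := Subgroup.card_mul_index π.ker
  rw [hidx, hcard] at this
  have hp0 : 0 < p := hpp.pos
  apply Nat.eq_of_mul_eq_mul_right hp0
  rw [this]; ring

theorem es_E_comm {E : Subgroup Q} (hcE : Nat.card E = p ^ 2) :
    ∀ x ∈ E, ∀ y ∈ E, x * y = y * x := by
  intro x hx y hy
  have := (IsPGroup.isMulCommutative_of_card_eq_prime_sq hcE).is_comm.comm ⟨x, hx⟩ ⟨y, hy⟩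
  exact congrArg Subtype.val this

theorem es_centralizer (hcard : Nat.card Q = p ^ 3) {E : Subgroup Q} (hcE : Nat.card E = p ^ 2)
    {y : Q} (hy : y ∈ E) (hyZ : y ∉ Subgroup.center Q) {b : Q} (hb : b * y = y * b) : b ∈ E := by
  have hpp : p.Prime := Fact.out
  have hle : E ≤ Subgroup.centralizer {y} := by
    intro x hx
    rw [Subgroup.mem_centralizer_singleton_iff]
    exact es_E_comm hcE x hx y hy
  have hne : Subgroup.centralizer {y} ≠ ⊤ := by
    intro h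
    apply hyZ
    rw [Subgroup.mem_center_iff]
    intro g
    have : g ∈ Subgroup.centralizer {y} := h ▸ Subgroup.mem_top g
    exact Subgroup.mem_centralizer_singleton_iff.mp this
  have h1 : Nat.card (Subgroup.centralizer {y}) ∣ p ^ 3 := hcard ▸ Subgroup.card_subgroup_dvd_card _
  obtain ⟨j, hj, hj2⟩ := (Nat.dvd_prime_pow hpp).mp h1
  have h2 : p ^ 2 ∣ p ^ j := by
    rw [← hcE, ← hj2]; exact Subgroup.card_dvd_of_le hle
  have h3 : 2 ≤ j := (Nat.pow_dvd_pow_iff_le_right hpp.one_lt).mp h2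
  have h4 : j ≠ 3 := by
    rintro rfl
    apply hne
    apply Subgroup.eq_top_of_card_eq
    rw [hj2, hcard]
  have h5 : j = 2 := by omega
  have h6 : E = Subgroup.centralizer {y} := by
    apply Subgroup.eq_of_le_of_card_ge hle
    rw [hj2, h5, hcE]
  rw [h6, Subgroup.mem_centralizer_singleton_iff]
  exact hb

theorem es_comm_surj (hE : Cfsg.IsExtraspecial p Q) {y : Q} (hyZ : y ∉ Subgroup.center Q) {ζ : Q}
    (hζ : ζ ∈ Subgroup.center Q) : ∃ b : Q, b * y * b⁻¹ * y⁻¹ = ζ := by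
  let φ : Q →* Subgroup.center Q :=
    { toFun := fun b => ⟨b * y * b⁻¹ * y⁻¹, es_comm_mem_center hE b y⟩
      map_one' := by ext; simp
      map_mul' := fun b c => by
        ext
        have h := Subgroup.mem_center_iff.mp (es_comm_mem_center hE c y) b
        change b * c * y * (b * c)⁻¹ * y⁻¹ = (b * y * b⁻¹ * y⁻¹) * (c * y * c⁻¹ * y⁻¹)
        have e1 : b * c * y * (b * c)⁻¹ * y⁻¹ = b * (c * y * c⁻¹ * y⁻¹) * (y * b⁻¹ * y⁻¹) := by group
        have h2 := Subgroup.mem_center_iff.mp (es_comm_mem_center hE c y) (b * y * b⁻¹ * y⁻¹)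
        rw [e1, h, h2]; group }
  obtain ⟨a, ha⟩ : ∃ a : Q, a * y ≠ y * a := by
    by_contra hcon
    push Not at hcon
    exact hyZ (Subgroup.mem_center_iff.mpr hcon)
  have h1 : φ a ≠ 1 := by
    intro h
    have h' : a * y * a⁻¹ * y⁻¹ = 1 := congrArg Subtype.val h
    apply ha
    have : a * y = (a * y * a⁻¹ * y⁻¹) * (y * a) := by group
    rw [this, h', one_mul]
  have h2 := mem_zpowers_of_prime_card (G := Subgroup.center Q) (g := φ a) (g' := ⟨ζ, hζ⟩) hE.2 h1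
  obtain ⟨i, hi⟩ := Subgroup.mem_zpowers_iff.mp h2
  refine ⟨a ^ i, ?_⟩
  rw [← map_zpow] at hi
  exact congrArg Subtype.val hi

theorem es_E_gen (hE : Cfsg.IsExtraspecial p Q) {E : Subgroup Q} (hcE : Nat.card E = p ^ 2)
    (K : Subgroup Q) (hKE : K ≤ E) (hZK : Subgroup.center Q ≤ K) {y : Q} (hy : y ∈ K)
    (hyZ : y ∉ Subgroup.center Q) : E ≤ K := by
  have hpp : p.Prime := Fact.out
  have h1 : Nat.card K ∣ p ^ 2 := hcE ▸ Subgroup.card_dvd_of_le hKE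
  obtain ⟨j, hj, hj2⟩ := (Nat.dvd_prime_pow hpp).mp h1
  have h2 : p ^ 1 ∣ p ^ j := by
    rw [pow_one, ← hj2]
    conv_lhs => rw [← hE.2]
    exact Subgroup.card_dvd_of_le hZK
  have h3 : 1 ≤ j := (Nat.pow_dvd_pow_iff_le_right hpp.one_lt).mp h2
  have h4 : j ≠ 1 := by
    rintro rfl
    apply hyZ
    have : Subgroup.center Q = K := by
      apply Subgroup.eq_of_le_of_card_ge hZK
      rw [hj2, hE.2, pow_one]
    rw [this]; exact hy
  have h5 : j = 2 := by omega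
  have : K = E := by
    apply Subgroup.eq_of_le_of_card_ge hKE
    rw [hj2, h5, hcE]
  exact this ▸ le_rfl

end ES

section Core
variable {G : Type*} [Group G] [Finite G] {p : ℕ} [Fact p.Prime]

/-- Sylow conjugation inside a subgroup `K` containing a conjugate of the Sylow subgroup `P`. -/
theorem sylow_conj_le (P : Sylow p G) (g : G) (K : Subgroup G)
    (hPK : ∀ b ∈ (P : Subgroup G), g * b * g⁻¹ ∈ K) (E : Subgroup G) (hE : IsPGroup p E)
    (hEK : E ≤ K) : ∃ c ∈ K, ∀ e ∈ E, (c * g)⁻¹ * e * (c * g) ∈ (P : Subgroup G) := by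
  classical
  have hmem : ∀ x, x ∈ ((g • P : Sylow p G) : Subgroup G) ↔ g⁻¹ * x * g ∈ (P : Subgroup G) := by
    intro x
    rw [Sylow.coe_subgroup_smul, Subgroup.mem_pointwise_smul_iff_inv_smul_mem, MulAut.smul_def,
      ← map_inv, MulAut.conj_apply, inv_inv]
  have hle : ((g • P : Sylow p G) : Subgroup G) ≤ K := by
    intro x hx
    have := hPK _ ((hmem x).mp hx)
    have e : g * (g⁻¹ * x * g) * g⁻¹ = x := by group
    rwa [e] at this
  have hE' : IsPGroup p (E.subgroupOf K) := hE.comap_subtype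
  obtain ⟨S, hS⟩ := hE'.exists_le_sylow
  obtain ⟨c, hc⟩ := MulAction.exists_smul_eq K ((g • P : Sylow p G).subtype hle) S
  refine ⟨c, c.2, fun e he => ?_⟩
  have h1 : (⟨e, hEK he⟩ : K) ∈ (S : Subgroup K) := hS (by simpa [Subgroup.mem_subgroupOf] using he)
  rw [← hc, Sylow.coe_subgroup_smul, Subgroup.mem_pointwise_smul_iff_inv_smul_mem, MulAut.smul_def,
    ← map_inv, MulAut.conj_apply, inv_inv, Sylow.coe_subtype, Subgroup.mem_subgroupOf] at h1
  have h2 := (hmem _).mp h1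
  have e2 : (c * g : G)⁻¹ * e * (c * g) = g⁻¹ * ((c⁻¹ * ⟨e, hEK he⟩ * c : K) : G) * g := by
    simp only [Subgroup.coe_mul, Subgroup.coe_inv]; group
  rw [e2]; exact h2

/-- If `τ` inverts the abelian group `E` and `b` normalises `E` then `[τ, b]` centralises `E`. -/
theorem inv_comm_centralizes {E : Subgroup G} {τ b : G} (hτ : ∀ e ∈ E, τ * e * τ⁻¹ = e⁻¹)
    (hb : ∀ e ∈ E, b⁻¹ * e * b ∈ E) {e : G} (he : e ∈ E) :
    (τ * b * τ⁻¹ * b⁻¹) * e = e * (τ * b * τ⁻¹ * b⁻¹) := by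
  have h1 := hτ _ (E.inv_mem (hb e he))
  rw [inv_inv] at h1
  have h2 : τ⁻¹ * (b⁻¹ * e * b) * τ = (b⁻¹ * e * b)⁻¹ := by
    conv_lhs => rw [← h1]
    group
  have h3 := hτ _ (E.inv_mem he)
  rw [inv_inv] at h3
  have e1 : (τ * b * τ⁻¹ * b⁻¹) * e = τ * b * (τ⁻¹ * (b⁻¹ * e * b) * τ) * τ⁻¹ * b⁻¹ := by group
  have e2 : τ * b * (b⁻¹ * e * b)⁻¹ * τ⁻¹ * b⁻¹ = (τ * e⁻¹ * τ⁻¹) * (τ * b * τ⁻¹ * b⁻¹) := by group
  rw [e1, h2, e2, h3]

theorem es_core (hp : p ≠ 2) (P : Sylow p G)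
    (E Z : Subgroup G) (hEP : E ≤ P) (hZE : Z ≤ E)
    (h2 : ∀ x ∈ (P : Subgroup G), x ^ p = 1 → x ∈ E) (h2' : ∀ x ∈ E, x ^ p = 1)
    (h3 : ∀ x ∈ E, ∀ y ∈ E, x * y = y * x)
    (h4 : ∀ z ∈ Z, ∀ b ∈ (P : Subgroup G), b * z = z * b)
    (h5 : ∀ y ∈ E, y ∉ Z → ∀ b ∈ (P : Subgroup G), b * y = y * b → b ∈ E)
    (h6 : ∀ y ∈ (P : Subgroup G), y ∉ Z → ∀ ζ ∈ Z, ∃ b ∈ (P : Subgroup G), b * y * b⁻¹ * y⁻¹ = ζ)
    (h7 : ∀ K : Subgroup G, K ≤ E → Z ≤ K → ∀ y ∈ K, y ∉ Z → E ≤ K)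
    (h8 : ∀ s ∈ Z, ∀ t ∈ Z, s ≠ 1 → t ∈ Subgroup.zpowers s)
    (h9 : ∀ x ∈ (P : Subgroup G), ∀ y ∈ (P : Subgroup G), (x * y) ^ p = x ^ p * y ^ p)
    (h10 : ∀ x ∈ (P : Subgroup G), x ^ p ∈ Z)
    (h11 : ∃ a ∈ (P : Subgroup G), a ^ p ≠ 1)
    (z : G) (hz : z ∈ Z) (g : G) (hy : g * z * g⁻¹ ∈ (P : Subgroup G)) : g * z * g⁻¹ ∈ Z := by
  have hpp : p.Prime := Fact.out
  by_contra hyZ
  obtain ⟨y, hydef⟩ : ∃ y, y = g * z * g⁻¹ := ⟨_, rfl⟩
  rw [← hydef] at hy hyZ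
  have hz1 : z ≠ 1 := by
    rintro rfl
    apply hyZ; rw [hydef]; simp [Z.one_mem]
  have hzE := hZE hz
  have hzP := hEP hzE
  have hyE : y ∈ E := h2 y hy (by rw [hydef, conj_pow, h2' z hzE]; group)
  have hzy : z * y = y * z := h3 z hzE y hyE
  -- `P` normalises `E`
  have hPE : ∀ b ∈ (P : Subgroup G), ∀ e ∈ E, b * e * b⁻¹ ∈ E := by
    intro b hb e he
    refine h2 _ (mul_mem (mul_mem hb (hEP he)) (inv_mem hb)) ?_
    rw [conj_pow, h2' e he]; group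
  have hPE' : ∀ b ∈ (P : Subgroup G), ∀ e ∈ E, b⁻¹ * e * b ∈ E := by
    intro b hb e he
    have := hPE b⁻¹ (inv_mem hb) e he
    rwa [inv_inv] at this
  -- an element `h` normalising `E` with `h z h⁻¹ = y`
  obtain ⟨h, hh1, hh2⟩ : ∃ h : G, (∀ e ∈ E, h⁻¹ * e * h ∈ (P : Subgroup G)) ∧ h * z * h⁻¹ = y := by
    obtain ⟨c, hc, hc2⟩ := sylow_conj_le P g (Subgroup.centralizer {y}) (by
      intro b hb
      rw [Subgroup.mem_centralizer_singleton_iff, hydef]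
      have := h4 z hz b hb
      calc g * b * g⁻¹ * (g * z * g⁻¹) = g * (b * z) * g⁻¹ := by group
        _ = g * (z * b) * g⁻¹ := by rw [this]
        _ = g * z * g⁻¹ * (g * b * g⁻¹) := by group) E (P.2.to_le hEP) (by
      intro e he
      rw [Subgroup.mem_centralizer_singleton_iff]
      exact h3 e he y hyE)
    refine ⟨c * g, hc2, ?_⟩
    rw [Subgroup.mem_centralizer_singleton_iff] at hc
    calc c * g * z * (c * g)⁻¹ = c * (g * z * g⁻¹) * c⁻¹ := by group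
      _ = c * y * c⁻¹ := by rw [hydef]
      _ = y := by rw [hc]; group
  have hN : h⁻¹ ∈ Subgroup.normalizer (E : Set G) := by
    apply Cfsg.Agent.Lib.Helper15.Repl.mem_normalizer_of_conj
    intro e he
    rw [inv_inv]
    refine h2 _ (hh1 e he) ?_
    have : h⁻¹ * e * h = h⁻¹ * e * h⁻¹⁻¹ := by rw [inv_inv]
    rw [this, conj_pow, h2' e he]; group
  have hhE : ∀ e ∈ E, h⁻¹ * e * h ∈ E := by
    intro e he
    have := (Subgroup.mem_normalizer_iff.mp hN e).mp he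
    rwa [inv_inv] at this
  have hhE' : ∀ e ∈ E, h * e * h⁻¹ ∈ E := by
    intro e he
    exact (Subgroup.mem_normalizer_iff.mp (by simpa using inv_mem hN) e).mp he
  obtain ⟨e₀, he₀⟩ : ∃ e₀, e₀ = h⁻¹ * z * h := ⟨_, rfl⟩
  have he₀E : e₀ ∈ E := he₀ ▸ hhE z hzE
  have he₀z : h * e₀ * h⁻¹ = z := by rw [he₀]; group
  have he₀Z : e₀ ∉ Z := by
    intro hcon
    have h1 : e₀ ≠ 1 := by
      rintro rfl
      apply hz1; rw [← he₀z]; group
    obtain ⟨i, hi⟩ := Subgroup.mem_zpowers_iff.mp (h8 e₀ hcon z hz h1)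
    apply hyZ
    rw [← hh2, ← hi, ← conj_zpow, he₀z]
    exact Z.zpow_mem hz i
  obtain ⟨u, huP, hu⟩ := h6 y hy hyZ z hz
  obtain ⟨b, hbP, hb⟩ := h6 e₀ (hEP he₀E) he₀Z z⁻¹ (inv_mem hz)
  have huy : MulAut.conj u y = z * y := by
    rw [MulAut.conj_apply, ← hu]; group
  have huz : MulAut.conj u z = z := by
    rw [MulAut.conj_apply, h4 z hz u huP]; group
  obtain ⟨r, hr⟩ : ∃ r, r = h * b * h⁻¹ := ⟨_, rfl⟩
  have hrz : MulAut.conj r z = y⁻¹ * z := by
    rw [MulAut.conj_apply, hr]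
    calc h * b * h⁻¹ * z * (h * b * h⁻¹)⁻¹ = h * ((b * (h⁻¹ * z * h) * b⁻¹ * (h⁻¹ * z * h)⁻¹)) * h⁻¹ * z := by
          group
      _ = h * z⁻¹ * h⁻¹ * z := by rw [← he₀, hb]
      _ = (h * z * h⁻¹)⁻¹ * z := by group
      _ = y⁻¹ * z := by rw [hh2]
  have hry : MulAut.conj r y = y := by
    rw [MulAut.conj_apply, hr, ← hh2]
    calc h * b * h⁻¹ * (h * z * h⁻¹) * (h * b * h⁻¹)⁻¹ = h * (b * z) * b⁻¹ * h⁻¹ := by group
      _ = h * z * h⁻¹ := by rw [h4 z hz b hbP]; group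
  obtain ⟨w, hw⟩ : ∃ w, w = u * r * u := ⟨_, rfl⟩
  have hwz : MulAut.conj w z = y⁻¹ := by
    rw [hw, map_mul, map_mul, MulAut.mul_apply, MulAut.mul_apply, huz, hrz, map_mul, map_inv, huy,
      huz]
    group
  have hwy : MulAut.conj w y = z := by
    rw [hw, map_mul, map_mul, MulAut.mul_apply, MulAut.mul_apply, huy, map_mul, hrz, hry,
      mul_assoc, hzy, inv_mul_cancel_left, huz]
  obtain ⟨n, hn⟩ : ∃ n, n = w * w := ⟨_, rfl⟩
  have hnz : n * z * n⁻¹ = z⁻¹ := by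
    rw [← MulAut.conj_apply, hn, map_mul, MulAut.mul_apply, hwz, map_inv, hwy]
  have hny : n * y * n⁻¹ = y⁻¹ := by
    rw [← MulAut.conj_apply, hn, map_mul, MulAut.mul_apply, hwy, hwz]
  -- `n` inverts `E`
  let I : Subgroup G :=
    { carrier := {e | e ∈ E ∧ n * e * n⁻¹ = e⁻¹}
      one_mem' := ⟨E.one_mem, by simp⟩
      mul_mem' := by
        rintro e f ⟨he, he2⟩ ⟨hf, hf2⟩
        refine ⟨E.mul_mem he hf, ?_⟩
        have : n * (e * f) * n⁻¹ = (n * e * n⁻¹) * (n * f * n⁻¹) := by group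
        rw [this, he2, hf2, mul_inv_rev]
        exact h3 _ (E.inv_mem he) _ (E.inv_mem hf)
      inv_mem' := by
        rintro e ⟨he, he2⟩
        refine ⟨E.inv_mem he, ?_⟩
        have : n * e⁻¹ * n⁻¹ = (n * e * n⁻¹)⁻¹ := by group
        rw [this, he2] }
  have hzI : z ∈ I := ⟨hzE, hnz⟩
  have hI : E ≤ I := by
    refine h7 I (fun e he => he.1) ?_ y ⟨hyE, hny⟩ hyZ
    intro ζ hζ
    obtain ⟨i, hi⟩ := Subgroup.mem_zpowers_iff.mp (h8 z hz ζ hζ hz1)
    rw [← hi]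
    exact I.zpow_mem hzI i
  have hinv : ∀ e ∈ E, n * e * n⁻¹ = e⁻¹ := fun e he => (hI he).2
  -- the centraliser of `E`
  have hPC : (P : Subgroup G) ≤ Subgroup.normalizer (Subgroup.centralizer (E : Set G) : Set G) := by
    intro b hb
    apply Cfsg.Agent.Lib.Helper15.Repl.mem_normalizer_of_conj
    intro c hc
    rw [Subgroup.mem_centralizer_iff] at hc ⊢
    intro e he
    have := hc _ (hPE' b hb e he)
    calc e * (b * c * b⁻¹) = b * ((b⁻¹ * e * b) * c) * b⁻¹ := by group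
      _ = b * (c * (b⁻¹ * e * b)) * b⁻¹ := by rw [this]
      _ = b * c * b⁻¹ * e := by group
  obtain ⟨c, hc, hc2⟩ := sylow_conj_le P n ((P : Subgroup G) ⊔ Subgroup.centralizer (E : Set G)) (by
      intro b hb
      have e1 : n * b * n⁻¹ = (n * b * n⁻¹ * b⁻¹) * b := by group
      rw [e1]
      refine mul_mem (Subgroup.mem_sup_right ?_) (Subgroup.mem_sup_left hb)
      rw [Subgroup.mem_centralizer_iff]
      intro e he
      exact (inv_comm_centralizes hinv (hPE' b hb) he).symm) P P.2 le_sup_left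
  obtain ⟨b₁, hb₁, c₁, hc₁, hbc⟩ := (Cfsg.Agent.Lib.Helper1.mem_sup_of_le_normalizer hPC).mp hc
  obtain ⟨t, ht⟩ : ∃ t, t = (c₁ * n)⁻¹ := ⟨_, rfl⟩
  have htP : ∀ e ∈ (P : Subgroup G), t * e * t⁻¹ ∈ (P : Subgroup G) := by
    intro e he
    have := hc2 (b₁ * e * b₁⁻¹) (mul_mem (mul_mem hb₁ he) (inv_mem hb₁))
    rw [← hbc] at this
    have e1 : (b₁ * c₁ * n)⁻¹ * (b₁ * e * b₁⁻¹) * (b₁ * c₁ * n) = t * e * t⁻¹ := by
      rw [ht]; group
    rwa [e1] at this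
  have htE : ∀ e ∈ E, t * e * t⁻¹ = e⁻¹ := by
    intro e he
    rw [Subgroup.mem_centralizer_iff] at hc₁
    have h1 := hc₁ e he
    have h2 := hinv _ (E.inv_mem he)
    rw [inv_inv] at h2
    calc t * e * t⁻¹ = n⁻¹ * (c₁⁻¹ * (e * c₁)) * n := by rw [ht]; group
      _ = n⁻¹ * e * n := by rw [h1]; group
      _ = n⁻¹ * (n * e⁻¹ * n⁻¹) * n := by rw [h2]
      _ = e⁻¹ := by group
  obtain ⟨a, haP, ha⟩ := h11
  have hdP : t * a * t⁻¹ * a⁻¹ ∈ (P : Subgroup G) := mul_mem (htP a haP) (inv_mem haP)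
  have hdE : t * a * t⁻¹ * a⁻¹ ∈ E :=
    h5 y hyE hyZ _ hdP (inv_comm_centralizes htE (hPE' a haP) hyE)
  have h12 : (t * a * t⁻¹) ^ p = a ^ p := by
    have e1 : t * a * t⁻¹ = (t * a * t⁻¹ * a⁻¹) * a := by group
    rw [e1, h9 _ hdP a haP, h2' _ hdE, one_mul]
  rw [conj_pow, htE _ (hZE (h10 a haP))] at h12
  have h13 : (a ^ p) ^ 2 = 1 := by
    rw [pow_two]
    nth_rewrite 1 [← h12]
    group
  have h14 : (a ^ p) ^ p = 1 := h2' _ (hZE (h10 a haP))
  apply ha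
  have hcop : Nat.Coprime 2 p := by
    rw [Nat.coprime_comm, Nat.Prime.coprime_iff_not_dvd hpp]
    intro hd
    exact hp ((Nat.prime_dvd_prime_iff_eq hpp Nat.prime_two).mp hd)
  have h15 : orderOf (a ^ p) ∣ Nat.gcd 2 p :=
    Nat.dvd_gcd (orderOf_dvd_of_pow_eq_one h13) (orderOf_dvd_of_pow_eq_one h14)
  rw [hcop, Nat.dvd_one, orderOf_eq_one_iff] at h15
  exact h15

end Core

end Cfsg.Agent.Lib.Helper5
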