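import Cfsg.Agent.Lib.Helper19.CliffordDeg
import Cfsg.Agent.Lib.Helper82.LinCount
import Cfsg.Agent.Lib.Helper82.Codegree
import Cfsg.Agent.Lib.Helper82.Constituent
import Cfsg.Agent.Lib.Helper83.TwoClassN
import Cfsg.Agent.Lib.Helper5.Inertia
import Cfsg.Agent.S0854

set_option autoImplicit false
open Cfsg
open scoped ComplexConjugate

namespace Cfsg.Agent.Lib.Helper5

open Cfsg.Agent.Lib.Helper82

section
variable {G : Type*} [Group G] [Finite G]

theorem exists_irr_inflate (N : Subgroup G) [N.Normal] (ψ : IrrCharacter (G ⧸ N)) :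
    ∃ χ : IrrCharacter G, charDegree (χ : G → ℂ) = charDegree (ψ : G ⧸ N → ℂ) ∧
      ∀ g : G, (χ : G → ℂ) g = (ψ : G ⧸ N → ℂ) (g : G ⧸ N) :=
  ⟨⟨fun g => (ψ : G ⧸ N → ℂ) (g : G ⧸ N), isIrr_inflate ψ.2⟩, rfl, fun _ => rfl⟩

theorem exists_irr_over_dvd (N : Subgroup G) [hN : N.Normal] (θ : IrrCharacter N) :
    ∃ χ : IrrCharacter G, charDegree (θ : N → ℂ) ∣ charDegree (χ : G → ℂ) := by
  have := Fintype.ofFinite G
  obtain ⟨χ, hχ, a, b, ha, hb, hab⟩ := Cfsg.Agent.Lib.Helper19.exists_irr_over_degree_dvd hN θ.2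
  refine ⟨⟨χ, hχ⟩, ?_⟩
  have h1 : charDegree χ = a := by
    have := isChar_one_eq (isIrr_isChar hχ)
    rw [ha] at this
    exact_mod_cast this.symm
  have h2 : charDegree (θ : N → ℂ) = b := by
    have := isChar_one_eq (isIrr_isChar θ.2)
    rw [hb] at this
    exact_mod_cast this.symm
  rw [h1, h2]
  exact hab

theorem comm_of_all_linear (h : ∀ χ : IrrCharacter G, charDegree (χ : G → ℂ) = 1) :
    ∀ a b : G, a * b = b * a := by
  classical
  have := Cfsg.Agent.Lib.Helper82.finite_irrCharacter (G := G)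
  have := Fintype.ofFinite (IrrCharacter G)
  have h1 := sum_sq_charDegree (G := G)
  have h2 := card_linear_eq_index (G := G)
  have h3 : Nat.card {χ : IrrCharacter G // (χ : G → ℂ) 1 = 1} = Nat.card G := by
    rw [← h1, Nat.card_eq_fintype_card, Fintype.card_subtype, Finset.card_eq_sum_ones,
      Finset.filter_true_of_mem]
    · apply Finset.sum_congr rfl
      intro χ _
      rw [h χ]; rfl
    · intro χ _
      rw [isChar_one_eq (isIrr_isChar χ.2), h χ]
      simp
  rw [h3] at h2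
  have h4 : commutator G = ⊥ := by
    have := (commutator G).card_mul_index
    rw [← h2] at this
    have h5 : Nat.card (commutator G) = 1 := by
      have hpos : 0 < Nat.card G := Nat.card_pos
      exact Nat.eq_of_mul_eq_mul_right hpos (by rw [this, one_mul])
    exact (Subgroup.card_eq_one).mp h5
  intro a b
  have h5 : a * b * a⁻¹ * b⁻¹ ∈ commutator G := by
    have := Subgroup.commutator_mem_commutator (Subgroup.mem_top a) (Subgroup.mem_top b)
    rwa [commutatorElement_def] at this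
  rw [h4, Subgroup.mem_bot] at h5
  calc a * b = (a * b * a⁻¹ * b⁻¹) * (b * a) := by group
    _ = b * a := by rw [h5, one_mul]

theorem index_inertia_dvd {N : Subgroup G} (hN : N.Normal) {θ : N → ℂ} (hθ : IsIrrCharacter N θ)
    {χ : G → ℂ} (hχ : IsIrrCharacter G χ) [Fintype N]
    (hc : classInner (fun n : N => χ n) θ ≠ 0) : (inertia hN θ).index ∣ charDegree χ := by
  classical
  have := Fintype.ofFinite G
  have hle : N ≤ inertia hN θ := le_inertia hN (isChar_isClassFunction (isIrr_isChar hθ))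
  obtain ⟨ψ, hψ, hind, -⟩ := @Cfsg.Agent.S0854.result G _ _ N hN _ θ hθ (inertia hN θ)
    (Fintype.ofFinite _) (fun g => mem_inertia' hN θ g) hle χ hχ hc
  rw [← hind, charDegree_indFun _ (isIrr_isChar hψ)]
  exact Dvd.intro _ rfl

theorem le_center_of_invariant {N : Subgroup G} (hN : N.Normal)
    (hab : ∀ a ∈ N, ∀ b ∈ N, a * b = b * a)
    (hinv : ∀ θ : IrrCharacter N, ∀ g : G, cjF hN (θ : N → ℂ) g = θ) :
    N ≤ Subgroup.center G := by
  intro n hn
  rw [Subgroup.mem_center_iff]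
  intro g
  have h1 : IsConj (⟨g * n * g⁻¹, hN.conj_mem n hn g⟩ : N) ⟨n, hn⟩ := by
    apply Cfsg.Agent.Lib.Helper83.isConj_of_irr_eq
    intro θ
    exact congrFun (hinv θ g) ⟨n, hn⟩
  obtain ⟨c, hc⟩ := isConj_iff.mp h1
  have h2 : c * (⟨g * n * g⁻¹, hN.conj_mem n hn g⟩ : N) * c⁻¹ = ⟨g * n * g⁻¹, hN.conj_mem n hn g⟩ := by
    have : c * (⟨g * n * g⁻¹, hN.conj_mem n hn g⟩ : N) =
        (⟨g * n * g⁻¹, hN.conj_mem n hn g⟩ : N) * c :=
      Subtype.ext (hab _ c.2 _ (hN.conj_mem n hn g))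
    rw [this, mul_inv_cancel_right]
  rw [h2] at hc
  have h3 : g * n * g⁻¹ = n := congrArg Subtype.val hc
  calc g * n = (g * n * g⁻¹) * g := by group
    _ = n * g := by rw [h3]

end

end Cfsg.Agent.Lib.Helper5
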