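import Cfsg.Agent.Lib.Helper5.Coherent
import Cfsg.Agent.Lib.Helper4.CharIntegral

set_option autoImplicit false
open Cfsg
open scoped ComplexConjugate

namespace Cfsg.Agent.Lib.Helper5

open Cfsg.Agent.Lib.Helper82 Cfsg.Agent.Lib.Helper20 Cfsg.Agent.Lib.Helper32

theorem genChar_comp_hom {G H : Type*} [Group G] [Group H] {θ : G → ℂ}
    (h : IsGeneralizedCharacter G θ) (f : H →* G) : IsGeneralizedCharacter H (fun x => θ (f x)) := by
  obtain ⟨a, b, ha, hb, rfl⟩ := h
  exact ⟨fun x => a (f x), fun x => b (f x), isCharacter_comp_hom ha f, isCharacter_comp_hom hb f, rfl⟩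

theorem genChar_isIntegral {G : Type*} [Group G] [Finite G] {θ : G → ℂ}
    (h : IsGeneralizedCharacter G θ) (g : G) : IsIntegral ℤ (θ g) := by
  obtain ⟨a, b, ha, hb, rfl⟩ := h
  exact (isCharacter_isIntegral ha g).sub (isCharacter_isIntegral hb g)

section
variable {K : Type*} [Group K] [Finite K]

theorem exists_nonprincipal [Nontrivial K] :
    ∃ θ : IrrCharacter K, (θ : K → ℂ) ≠ fun _ => 1 := by
  classical
  by_contra hcon
  push Not at hcon
  obtain ⟨x, hx⟩ := exists_ne (1 : K)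
  apply hx
  have : IsConj x 1 := by
    apply Cfsg.Agent.Lib.Helper83.isConj_of_irr_eq
    intro θ
    rw [hcon θ]
  exact isConj_one_left.mp this

/-- If `x * θ 1` is an integer for all non-principal irreducible `θ`, then `x` is an integer. -/
theorem int_of_mul_degree [Nontrivial K] (x : ℂ)
    (h : ∀ θ : IrrCharacter K, (θ : K → ℂ) ≠ (fun _ => 1) → ∃ z : ℤ, x * (θ : K → ℂ) 1 = z) :
    ∃ z : ℤ, x = z := by
  classical
  have := Cfsg.Agent.Lib.Helper82.finite_irrCharacter (G := K)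
  have := Fintype.ofFinite (IrrCharacter K)
  have hsum := sum_sq_charDegree (G := K)
  let one : IrrCharacter K := ⟨fun _ => 1, Cfsg.Agent.Lib.Helper4.isIrrCharacter_one⟩
  have hone : charDegree (one : K → ℂ) = 1 := by
    have := isChar_one_eq (isIrr_isChar one.2)
    have h1 : (one : K → ℂ) 1 = 1 := rfl
    rw [h1] at this
    exact_mod_cast this.symm
  rw [← Finset.add_sum_erase Finset.univ _ (Finset.mem_univ one), hone] at hsum
  have hne : ∀ θ ∈ Finset.univ.erase one, (θ : K → ℂ) ≠ fun _ => 1 := by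
    intro θ hθ h1
    exact (Finset.mem_erase.mp hθ).1 (Subtype.ext h1)
  -- x * (|K| - 1) is an integer
  have h1 : ∃ z : ℤ, x * ((∑ θ ∈ Finset.univ.erase one, charDegree (θ : K → ℂ) ^ 2 : ℕ) : ℂ) = z := by
    choose! z hz using h
    refine ⟨∑ θ ∈ Finset.univ.erase one, z θ * charDegree (θ : K → ℂ), ?_⟩
    push_cast
    rw [Finset.mul_sum]
    apply Finset.sum_congr rfl
    intro θ hθ
    rw [← hz θ (hne θ hθ), isChar_one_eq (isIrr_isChar θ.2)]
    ring
  obtain ⟨θ₀, hθ₀⟩ := exists_nonprincipal (K := K)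
  obtain ⟨z₀, hz₀⟩ := h θ₀ hθ₀
  obtain ⟨q, hq⟩ := isIrr_charDegree_dvd_card θ₀.2
  have h2 : x * (Nat.card K : ℂ) = ((z₀ * q : ℤ) : ℂ) := by
    rw [hq]
    push_cast
    rw [← hz₀, isChar_one_eq (isIrr_isChar θ₀.2)]
    ring
  obtain ⟨z₁, hz₁⟩ := h1
  refine ⟨z₀ * q - z₁, ?_⟩
  push_cast at h2 ⊢
  rw [← hz₁, ← h2, ← hsum]
  push_cast
  ring

/-- A generalized character which is constant on the non-identity elements takes an integer value
there. -/
theorem int_of_const_genChar [Nontrivial K] {F : K → ℂ} (hF : IsGeneralizedCharacter K F) (D : ℂ)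
    (hD : ∀ k : K, k ≠ 1 → F k = D) : ∃ z : ℤ, D = z := by
  classical
  have := Fintype.ofFinite K
  obtain ⟨z₁, hz₁⟩ := genChar_apply_one hF
  obtain ⟨z₂, hz₂⟩ := genChar_inner_irr_int hF (Cfsg.Agent.Lib.Helper4.isIrrCharacter_one (G := K))
  obtain ⟨k₀, hk₀⟩ := exists_ne (1 : K)
  have hint : IsIntegral ℤ D := hD k₀ hk₀ ▸ genChar_isIntegral hF k₀
  unfold classInner at hz₂
  have hcard : (Nat.card K : ℂ) ≠ 0 := by exact_mod_cast Nat.card_pos.ne'
  have hsum : ∑ k : K, F k = (Nat.card K : ℂ) * z₂ := by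
    rw [← hz₂, ← mul_assoc, mul_inv_cancel₀ hcard, one_mul]
    simp
  have hsum2 : ∑ k : K, F k = z₁ + ((Nat.card K : ℂ) - 1) * D := by
    rw [← Finset.add_sum_erase Finset.univ _ (Finset.mem_univ (1 : K)), hz₁,
      Finset.sum_congr rfl (fun k hk => hD k (Finset.mem_erase.mp hk).1), Finset.sum_const,
      Finset.card_erase_of_mem (Finset.mem_univ _), Finset.card_univ, nsmul_eq_mul,
      Nat.card_eq_fintype_card, Nat.cast_sub Fintype.card_pos]
    simp
  have hgt : 1 < Nat.card K := Finite.one_lt_card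
  have hne : ((Nat.card K : ℂ) - 1) ≠ 0 := by
    intro h
    have h1 : (Nat.card K : ℂ) = 1 := sub_eq_zero.mp h
    have h2 : Nat.card K = 1 := by exact_mod_cast h1
    omega
  have hDq : D = ((((Nat.card K : ℚ) * z₂ - z₁) / ((Nat.card K : ℚ) - 1) : ℚ) : ℂ) := by
    push_cast
    rw [eq_div_iff hne]
    linear_combination hsum2.symm.trans hsum
  rw [hDq] at hint
  obtain ⟨z, hz⟩ := Cfsg.Agent.Lib.Helper4.exists_int_of_isIntegral_rat hint
  exact ⟨z, by rw [hDq, hz]; simp⟩

end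

end Cfsg.Agent.Lib.Helper5
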