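import Mathlib

set_option autoImplicit false

namespace Cfsg.Agent.Lib.Helper5

section Dih
variable {G : Type*} [Group G] {x y : G}

theorem mul_self_of_order_two (hx : orderOf x = 2) : x * x = 1 := by
  have := pow_orderOf_eq_one x
  rw [hx, sq] at this
  exact this

theorem inv_eq_self_of_order_two (hx : orderOf x = 2) : x⁻¹ = x :=
  inv_eq_of_mul_eq_one_left (mul_self_of_order_two hx)

theorem ne_one_of_order_two (hx : orderOf x = 2) : x ≠ 1 := by
  rintro rfl
  simp at hx

theorem order_two_of_mul_self (h1 : x * x = 1) (h2 : x ≠ 1) : orderOf x = 2 :=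
  orderOf_eq_prime (by rw [sq]; exact h1) h2

theorem dih_conj (hx : orderOf x = 2) (hy : orderOf y = 2) : x * (x * y) * x⁻¹ = (x * y)⁻¹ := by
  rw [mul_inv_rev, inv_eq_self_of_order_two hx, inv_eq_self_of_order_two hy, ← mul_assoc,
    mul_self_of_order_two hx, one_mul]

theorem dih_conj_zpow (hx : orderOf x = 2) (hy : orderOf y = 2) (k : ℤ) :
    x * (x * y) ^ k * x⁻¹ = (x * y) ^ (-k) := by
  rw [← conj_zpow, dih_conj hx hy, inv_zpow, zpow_neg]

theorem dih_comm (hx : orderOf x = 2) (hy : orderOf y = 2) (k : ℤ) :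
    x * (x * y) ^ k = (x * y) ^ (-k) * x := by
  rw [← dih_conj_zpow hx hy, inv_mul_cancel_right]

theorem dih_conj_y (hx : orderOf x = 2) (hy : orderOf y = 2) : y * (x * y) * y⁻¹ = (x * y)⁻¹ := by
  rw [mul_inv_rev, inv_eq_self_of_order_two hx, inv_eq_self_of_order_two hy, mul_assoc, mul_assoc,
    mul_self_of_order_two hy, mul_one]

theorem dih_conj_zpow_y (hx : orderOf x = 2) (hy : orderOf y = 2) (k : ℤ) :
    y * (x * y) ^ k * y⁻¹ = (x * y) ^ (-k) := by
  rw [← conj_zpow, dih_conj_y hx hy, inv_zpow, zpow_neg]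

theorem dih_y_eq (hx : orderOf x = 2) (hy : orderOf y = 2) : y = (x * y) ^ (-1 : ℤ) * x := by
  rw [zpow_neg_one, mul_inv_rev, inv_eq_self_of_order_two hx, inv_eq_self_of_order_two hy, mul_assoc,
    mul_self_of_order_two hx, mul_one]

theorem dih_mem (hx : orderOf x = 2) (hy : orderOf y = 2) {d : G}
    (hd : d ∈ Subgroup.closure ({x, y} : Set G)) :
    ∃ k : ℤ, d = (x * y) ^ k ∨ d = (x * y) ^ k * x := by
  induction hd using Subgroup.closure_induction with
  | mem z hz =>
    rcases hz with rfl | hz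
    · exact ⟨0, Or.inr (by simp)⟩
    · rw [Set.mem_singleton_iff] at hz
      subst hz
      exact ⟨-1, Or.inr (dih_y_eq hx hy)⟩
  | one => exact ⟨0, Or.inl (by simp)⟩
  | mul a b _ _ iha ihb =>
    obtain ⟨i, hi⟩ := iha
    obtain ⟨j, hj⟩ := ihb
    rcases hi with rfl | rfl <;> rcases hj with rfl | rfl
    · exact ⟨i + j, Or.inl (by rw [zpow_add])⟩
    · exact ⟨i + j, Or.inr (by rw [zpow_add, mul_assoc])⟩
    · exact ⟨i + -j, Or.inr (by rw [zpow_add, mul_assoc, dih_comm hx hy, mul_assoc])⟩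
    · refine ⟨i + -j, Or.inl ?_⟩
      rw [zpow_add, mul_assoc, ← mul_assoc x, dih_comm hx hy, mul_assoc, mul_self_of_order_two hx,
        mul_one]
  | inv a _ iha =>
    obtain ⟨i, hi⟩ := iha
    rcases hi with rfl | rfl
    · exact ⟨-i, Or.inl (by rw [zpow_neg])⟩
    · refine ⟨i, Or.inr ?_⟩
      rw [mul_inv_rev, inv_eq_self_of_order_two hx, ← zpow_neg, dih_comm hx hy, neg_neg]

theorem dih_x_mem : x ∈ Subgroup.closure ({x, y} : Set G) :=
  Subgroup.subset_closure (by simp)

theorem dih_y_mem : y ∈ Subgroup.closure ({x, y} : Set G) :=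
  Subgroup.subset_closure (by simp)

theorem dih_r_mem : x * y ∈ Subgroup.closure ({x, y} : Set G) :=
  mul_mem dih_x_mem dih_y_mem

theorem dih_conj_x (hx : orderOf x = 2) (hy : orderOf y = 2) {d : G}
    (hd : d ∈ Subgroup.closure ({x, y} : Set G)) :
    ∃ k : ℤ, d * x * d⁻¹ = (x * y) ^ (2 * k) * x := by
  obtain ⟨k, hk⟩ := dih_mem hx hy hd
  refine ⟨k, ?_⟩
  rcases hk with rfl | rfl
  · rw [← zpow_neg, mul_assoc, dih_comm hx hy, neg_neg, ← mul_assoc, ← zpow_add, two_mul]
  · rw [mul_inv_rev, inv_eq_self_of_order_two hx, ← zpow_neg, mul_assoc, mul_assoc, ← mul_assoc x x,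
      mul_self_of_order_two hx, one_mul, dih_comm hx hy, neg_neg, ← mul_assoc, ← zpow_add, two_mul]

theorem dih_x_not_mem (hx : orderOf x = 2) (hy : orderOf y = 2) :
    x ∉ Subgroup.zpowers (x * y) := by
  intro h
  obtain ⟨k, hk⟩ := Subgroup.mem_zpowers_iff.mp h
  have hc : x * (x * y) * x⁻¹ = x * y := by
    have : Commute x (x * y) := by
      have h2 := (Commute.refl (x * y)).zpow_left k
      rwa [hk] at h2
    rw [this.eq, mul_inv_cancel_right]
  rw [dih_conj hx hy] at hc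
  have hsq : (x * y) * (x * y) = 1 := by
    nth_rewrite 1 [← hc]
    simp
  have : ∀ k : ℤ, (x * y) ^ k = 1 ∨ (x * y) ^ k = x * y := by
    intro k
    rcases Int.even_or_odd' k with ⟨m, rfl | rfl⟩
    · left
      rw [zpow_mul, zpow_two, hsq, one_zpow]
    · right
      rw [zpow_add, zpow_mul, zpow_two, hsq, one_zpow, one_mul, zpow_one]
  rcases this k with h1 | h1
  · exact ne_one_of_order_two hx (hk ▸ h1)
  · rw [hk] at h1
    exact ne_one_of_order_two hy (by simpa using h1.symm)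

end Dih

end Cfsg.Agent.Lib.Helper5
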