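import Cfsg.Agent.Lib.Helper5.DegHyp
import Cfsg.Agent.Lib.Helper5.IndDeg
import Cfsg.Agent.Lib.Helper79.Central
import Cfsg.Agent.Lib.Helper19.IndChar
import Cfsg.Agent.S0193

set_option autoImplicit false
open Cfsg
open scoped ComplexConjugate

namespace Cfsg.Agent.Lib.Helper5

open Cfsg.Agent.Lib.Helper82 Cfsg.Agent.Lib.Helper20 Cfsg.Agent.Lib.Helper79

section
variable {N : Type*} [Group N] [Finite N] {K : Subgroup N}

/-- In a "Frobenius-like" group (abelian normal `K` containing the centralizers of its non-identity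
elements) the inertia group of a non-principal irreducible character of `K` is `K`. -/
theorem inertia_eq_of_frob (hK : K.Normal) (hab : ∀ a ∈ K, ∀ b ∈ K, a * b = b * a)
    (hC : ∀ k ∈ K, k ≠ 1 → Subgroup.centralizer ({k} : Set N) ≤ K) {lam : K → ℂ}
    (hl : IsIrrCharacter K lam) (hl1 : lam ≠ fun _ => 1) : inertia hK lam = K := by
  apply le_antisymm _ (le_inertia hK (isChar_isClassFunction (isIrr_isChar hl)))
  intro g hg
  by_contra hgK
  apply hl1
  have hc : ∀ a b : K, a * b = b * a := fun a b => Subtype.ext (hab a a.2 b b.2)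
  have hmul := IsIrrCharacter.mul_of_comm hl hc
  have hone := IsIrrCharacter.one_eq_one_of_comm hl hc
  rw [mem_inertia'] at hg
  let f : K → K := fun k => ⟨g * k * g⁻¹, hK.conj_mem k k.2 g⟩ * k⁻¹
  have hf : ∀ k, lam (f k) = 1 := by
    intro k
    change lam (⟨g * k * g⁻¹, hK.conj_mem k k.2 g⟩ * k⁻¹) = 1
    rw [hmul, hg k, ← hmul, mul_inv_cancel, hone]
  have hinj : Function.Injective f := by
    intro k l hkl
    have h1 : g * (k : N) * g⁻¹ * (k : N)⁻¹ = g * (l : N) * g⁻¹ * (l : N)⁻¹ :=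
      congrArg Subtype.val hkl
    set c : N := (l : N)⁻¹ * k with hcdef
    have hcK : c ∈ K := mul_mem (inv_mem l.2) k.2
    have h2 : g * c * g⁻¹ = c := by
      have h3 : g * c * g⁻¹ = (g * (l : N) * g⁻¹)⁻¹ * (g * (k : N) * g⁻¹) := by
        rw [hcdef]; group
      have h4 : g * (k : N) * g⁻¹ = g * (l : N) * g⁻¹ * (l : N)⁻¹ * k := by
        rw [← h1]; group
      rw [h3, h4, hcdef]
      group
    by_contra hne
    have hc1 : c ≠ 1 := by
      intro h
      apply hne
      apply Subtype.ext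
      have : (l : N)⁻¹ * k = 1 := h
      exact (inv_mul_eq_one.mp this).symm
    apply hgK
    apply hC c hcK hc1
    rw [Subgroup.mem_centralizer_singleton_iff]
    calc g * c = (g * c * g⁻¹) * g := by group
      _ = c * g := by rw [h2]
  have hsurj : Function.Surjective f := Finite.surjective_of_injective hinj
  funext k
  obtain ⟨k', rfl⟩ := hsurj k
  exact hf k'

theorem indFun_irr_of_frob [Fintype N] (hK : K.Normal) (hab : ∀ a ∈ K, ∀ b ∈ K, a * b = b * a)
    (hC : ∀ k ∈ K, k ≠ 1 → Subgroup.centralizer ({k} : Set N) ≤ K) {lam : K → ℂ}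
    (hl : IsIrrCharacter K lam) (hl1 : lam ≠ fun _ => 1) : IsIrrCharacter N (indFun K lam) := by
  rw [isIrrCharacter_iff]
  refine ⟨Cfsg.Agent.Lib.Helper19.isCharacter_indFun K lam (isIrr_isChar hl), ?_⟩
  have h1 := @Cfsg.Agent.S0193.result N _ _ K hK lam hl
  have h2 : Nat.card {g : N // ∀ h : K, lam ⟨g * h * g⁻¹, hK.conj_mem h h.2 g⟩ = lam h} =
      Nat.card K := by
    have h3 := inertia_eq_of_frob hK hab hC hl hl1
    rw [← Nat.card_congr (Equiv.subtypeEquivRight (fun g => mem_inertia' hK lam g))]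
    change Nat.card (inertia hK lam) = _
    rw [h3]
  rw [h2] at h1
  have h0 : (Nat.card K : ℂ) ≠ 0 := by exact_mod_cast Nat.card_pos.ne'
  exact mul_left_cancel₀ h0 (by rw [h1, mul_one])

theorem indFun_eq_zero_of_not_mem [Fintype N] (hK : K.Normal) (θ : K → ℂ) {x : N} (hx : x ∉ K) :
    indFun K θ x = 0 := by
  rw [Cfsg.Agent.Lib.Helper19.indFun_apply, Finset.sum_eq_zero, mul_zero]
  intro y _
  apply Cfsg.Agent.Lib.Helper19.extendByZero_of_not_mem
  intro h
  apply hx
  have := hK.conj_mem _ h y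
  have e : y * (y⁻¹ * x * y) * y⁻¹ = x := by group
  rwa [e] at this

/-- Irreducible characters of a Frobenius-like group not containing the abelian kernel `K` in
their kernel are induced from `K`. -/
theorem exists_eq_indFun_of_frob [Fintype N] (hK : K.Normal)
    (hab : ∀ a ∈ K, ∀ b ∈ K, a * b = b * a)
    (hC : ∀ k ∈ K, k ≠ 1 → Subgroup.centralizer ({k} : Set N) ≤ K) {χ : N → ℂ}
    (hχ : IsIrrCharacter N χ) (hrel : ∃ k ∈ K, χ k ≠ χ 1) :
    ∃ lam : K → ℂ, IsIrrCharacter K lam ∧ (lam ≠ fun _ => 1) ∧ χ = indFun K lam := by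
  classical
  have hres : IsCharacter K (fun k : K => χ k) := isCharacter_restrict (isIrr_isChar hχ) K
  obtain ⟨lam, hl, hc⟩ := exists_constituent hres (IsIrrCharacter.one_ne_zero hχ)
  have hl1 : lam ≠ fun _ => 1 := by
    rintro rfl
    obtain ⟨k, hk, hne⟩ := hrel
    apply hne
    have h1 := clifford_invariant hK hχ hl hc (fun g => by funext n; rfl)
    have h2 := congrFun h1 ⟨k, hk⟩
    have h3 := congrFun h1 1
    simp only [Pi.smul_apply, smul_eq_mul, mul_one] at h2 h3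
    rw [h2]
    exact h3.symm
  refine ⟨lam, hl, hl1, ?_⟩
  have hirr := indFun_irr_of_frob hK hab hC hl hl1
  by_contra hne
  have h1 := classInner_irr_ne hirr hχ (fun h => hne h.symm)
  rw [Cfsg.Agent.Lib.Helper19.frobenius_reciprocity K lam χ
    (isChar_isClassFunction (isIrr_isChar hχ))] at h1
  exact classInner_ne_zero_symm hc h1

theorem frob_degree_and_vanish (hK : K.Normal)
    (hab : ∀ a ∈ K, ∀ b ∈ K, a * b = b * a)
    (hC : ∀ k ∈ K, k ≠ 1 → Subgroup.centralizer ({k} : Set N) ≤ K) {χ : N → ℂ}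
    (hχ : IsIrrCharacter N χ) (hrel : ∃ k ∈ K, χ k ≠ χ 1) :
    χ 1 = (K.index : ℂ) ∧ ∀ x : N, x ∉ K → χ x = 0 := by
  have := Fintype.ofFinite N
  obtain ⟨lam, hl, -, rfl⟩ := exists_eq_indFun_of_frob hK hab hC hχ hrel
  have hc : ∀ a b : K, a * b = b * a := fun a b => Subtype.ext (hab a a.2 b b.2)
  refine ⟨?_, fun x hx => indFun_eq_zero_of_not_mem hK lam hx⟩
  rw [Cfsg.Agent.Lib.Helper5.indFun_one, IsIrrCharacter.one_eq_one_of_comm hl hc, mul_one]

theorem frob_card_relevant (hK : K.Normal)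
    (hab : ∀ a ∈ K, ∀ b ∈ K, a * b = b * a)
    (hC : ∀ k ∈ K, k ≠ 1 → Subgroup.centralizer ({k} : Set N) ≤ K) :
    Nat.card {χ : IrrCharacter N // ∃ k ∈ K, (χ : N → ℂ) k ≠ (χ : N → ℂ) 1} * K.index + 1 =
      Nat.card K := by
  classical
  have := Cfsg.Agent.Lib.Helper82.finite_irrCharacter (G := N)
  have := Fintype.ofFinite (IrrCharacter N)
  have hsum := sum_sq_charDegree (G := N)
  rw [← Finset.sum_filter_add_sum_filter_not Finset.univ
    (fun χ : IrrCharacter N => ∀ x ∈ K, (χ : N → ℂ) x = (χ : N → ℂ) 1),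
    sum_sq_charDegree_ker K] at hsum
  have hiff : ∀ χ : IrrCharacter N, (∃ k ∈ K, (χ : N → ℂ) k ≠ (χ : N → ℂ) 1) ↔
      ¬ ∀ x ∈ K, (χ : N → ℂ) x = (χ : N → ℂ) 1 := by
    intro χ
    push Not
    rfl
  have h2 : ∑ χ ∈ Finset.univ.filter
      (fun χ : IrrCharacter N => ¬ ∀ x ∈ K, (χ : N → ℂ) x = (χ : N → ℂ) 1),
        charDegree (χ : N → ℂ) ^ 2 =
      (Finset.univ.filter
        (fun χ : IrrCharacter N => ¬ ∀ x ∈ K, (χ : N → ℂ) x = (χ : N → ℂ) 1)).card *
        K.index ^ 2 := by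
    rw [Finset.card_eq_sum_ones, Finset.sum_mul]
    apply Finset.sum_congr rfl
    intro χ hχ
    have h3 := (frob_degree_and_vanish hK hab hC χ.2
      ((hiff χ).mpr (Finset.mem_filter.mp hχ).2)).1
    rw [isChar_one_eq (isIrr_isChar χ.2)] at h3
    have h4 : charDegree (χ : N → ℂ) = K.index := by exact_mod_cast h3
    rw [h4, one_mul]
  rw [h2] at hsum
  rw [Nat.card_congr (Equiv.subtypeEquivRight hiff), Nat.card_eq_fintype_card,
    Fintype.card_subtype]
  set r := (Finset.univ.filter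
        (fun χ : IrrCharacter N => ¬ ∀ x ∈ K, (χ : N → ℂ) x = (χ : N → ℂ) 1)).card
  have hpos : 0 < K.index := Nat.pos_of_ne_zero K.index_ne_zero_of_finite
  have h5 : (r * K.index + 1) * K.index = Nat.card K * K.index := by
    rw [K.card_mul_index, ← hsum]; ring
  exact Nat.eq_of_mul_eq_mul_right hpos h5

theorem frob_exponent (hK : K.Normal)
    (hab : ∀ a ∈ K, ∀ b ∈ K, a * b = b * a)
    (hC : ∀ k ∈ K, k ≠ 1 → Subgroup.centralizer ({k} : Set N) ≤ K)
    (hcard : Nat.card K = K.index + 1) : ∃ p : ℕ, p.Prime ∧ ∀ a ∈ K, a ^ p = 1 := by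
  classical
  have hpos : 0 < K.index := Nat.pos_of_ne_zero K.index_ne_zero_of_finite
  have hne1 : Nat.card K ≠ 1 := by omega
  obtain ⟨p, hp, hpd⟩ := Nat.exists_prime_and_dvd hne1
  have : Fact p.Prime := ⟨hp⟩
  obtain ⟨k₀, hk₀⟩ := exists_prime_orderOf_dvd_card' p hpd
  have hk₀' : orderOf (k₀ : N) = p := by rw [Subgroup.orderOf_coe, hk₀]
  have hk1 : (k₀ : N) ≠ 1 := by
    intro h
    rw [h, orderOf_one] at hk₀'
    exact hp.one_lt.ne hk₀'
  have hcen : Subgroup.centralizer ({(k₀ : N)} : Set N) = K := by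
    apply le_antisymm (hC _ k₀.2 hk1)
    intro x hx
    rw [Subgroup.mem_centralizer_singleton_iff]
    exact hab x hx _ k₀.2
  have h1 := card_conj_mul_card_centralizer (k₀ : N)
  rw [hcen, ← K.card_mul_index, mul_comm] at h1
  have h2 : Nat.card {z : N // IsConj (k₀ : N) z} = K.index :=
    Nat.eq_of_mul_eq_mul_left Nat.card_pos h1
  have hsub : {z : N | IsConj (k₀ : N) z} ⊆ (K : Set N) \ {1} := by
    intro z hz
    obtain ⟨c, hc⟩ := isConj_iff.mp hz
    refine ⟨?_, ?_⟩
    · rw [← hc]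
      exact hK.conj_mem _ k₀.2 c
    · intro h
      apply hk1
      have h3 : z = 1 := h
      rw [h3] at hz
      exact isConj_one_left.mp hz
  have hcard2 : ((K : Set N) \ {1}).ncard = K.index := by
    rw [Set.ncard_sdiff_singleton_of_mem K.one_mem]
    have : (K : Set N).ncard = Nat.card K := rfl
    rw [this, hcard]
    rfl
  have heq : {z : N | IsConj (k₀ : N) z} = (K : Set N) \ {1} := by
    apply Set.eq_of_subset_of_ncard_le hsub _ (Set.toFinite _)
    rw [hcard2, ← h2]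
    rfl
  refine ⟨p, hp, ?_⟩
  intro a ha
  by_cases ha1 : a = 1
  · rw [ha1, one_pow]
  · have h3 : a ∈ {z : N | IsConj (k₀ : N) z} := by
      rw [heq]
      exact ⟨ha, ha1⟩
    obtain ⟨c, hc⟩ := isConj_iff.mp h3
    rw [← hc, conj_pow, ← hk₀', pow_orderOf_eq_one]
    group

end

end Cfsg.Agent.Lib.Helper5
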