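import Cfsg.Agent.Lib.Helper5.DegHyp

set_option autoImplicit false
open Cfsg
open scoped ComplexConjugate

namespace Cfsg.Agent.Lib.Helper5

open Cfsg.Agent.Lib.Helper82 Cfsg.Agent.Lib.Helper20

section
variable {G : Type*} [Group G] [Finite G]

theorem exists_linear_ne_one {x : G} (hx : x ∉ commutator G) :
    ∃ μ : G → ℂ, IsCharacter G μ ∧ μ 1 = 1 ∧ μ x ≠ 1 := by
  have hc : ∀ a b : G ⧸ commutator G, a * b = b * a := by
    intro a b
    exact mul_comm (G := Abelianization G) a b
  by_contra hcon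
  push Not at hcon
  apply hx
  rw [← QuotientGroup.eq_one_iff]
  have h1 : IsConj (x : G ⧸ commutator G) 1 := by
    apply Cfsg.Agent.Lib.Helper83.isConj_of_irr_eq
    intro ψ
    have h2 := isIrr_one_eq_one_of_comm hc ψ.2
    rw [h2]
    exact hcon (fun g => (ψ : G ⧸ commutator G → ℂ) (g : G ⧸ commutator G))
      (isIrr_isChar (isIrr_inflate ψ.2)) h2
  exact isConj_one_left.mp h1

theorem exists_constituent_not_dvd [Fintype G] {p : ℕ} {φ : G → ℂ} (hφ : IsCharacter G φ)
    (hp : ¬ p ∣ charDegree φ) :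
    ∃ χ : IrrCharacter G, classInner φ (χ : G → ℂ) ≠ 0 ∧ ¬ p ∣ charDegree (χ : G → ℂ) := by
  classical
  obtain ⟨l, rfl⟩ := exists_multiset_of_isCharacter hφ
  have key : ∀ l : Multiset (IrrCharacter G), (∀ χ ∈ l, p ∣ charDegree (χ : G → ℂ)) →
      p ∣ charDegree (l.map Subtype.val).sum := by
    intro l
    induction l using Multiset.induction_on with
    | empty =>
      intro _
      simp [charDegree]
    | cons a l ih =>
      intro h
      rw [Multiset.map_cons, Multiset.sum_cons,
        charDegree_add (isIrr_isChar a.2) (isCharacter_multiset_sum l)]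
      exact dvd_add (h a (Multiset.mem_cons_self a l))
        (ih fun χ hχ => h χ (Multiset.mem_cons_of_mem hχ))
  by_contra hcon
  push Not at hcon
  apply hp
  apply key
  intro χ hχ
  apply hcon χ
  rw [classInner_multiset_sum]
  exact_mod_cast (Multiset.count_pos.mpr hχ).ne'

/-- A linear character of a subgroup of index prime to `p` extends to `G` if every irreducible
character of `G` of degree prime to `p` is linear. -/
theorem exists_linear_extension {p : ℕ} (H : Subgroup G) (hH : ¬ p ∣ H.index)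
    (hdeg : ∀ χ : IrrCharacter G, charDegree (χ : G → ℂ) ≠ 1 → p ∣ charDegree (χ : G → ℂ))
    {μ : H → ℂ} (hμ : IsCharacter H μ) (hμ1 : μ 1 = 1) :
    ∃ χ : G → ℂ, IsCharacter G χ ∧ χ 1 = 1 ∧ ∀ h : H, χ h = μ h := by
  classical
  have := Fintype.ofFinite G
  have hd : charDegree μ = 1 := by
    have := isChar_one_eq hμ
    rw [hμ1] at this
    exact_mod_cast this.symm
  have hφ := Cfsg.Agent.Lib.Helper19.isCharacter_indFun H μ hμ
  obtain ⟨χ, hχ, hχp⟩ := exists_constituent_not_dvd (p := p) hφ (by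
    rw [charDegree_indFun H hμ, hd, mul_one]
    exact hH)
  have hχ1 : charDegree (χ : G → ℂ) = 1 := by
    by_contra h
    exact hχp (hdeg χ h)
  have hχ1' : (χ : G → ℂ) 1 = 1 := by
    rw [isChar_one_eq (isIrr_isChar χ.2), hχ1]
    simp
  refine ⟨χ, isIrr_isChar χ.2, hχ1', ?_⟩
  rw [Cfsg.Agent.Lib.Helper19.frobenius_reciprocity H μ _
    (isChar_isClassFunction (isIrr_isChar χ.2))] at hχ
  have hr : IsIrrCharacter H (fun a : H => (χ : G → ℂ) a) :=
    isChar_linear_isIrr (isCharacter_restrict (isIrr_isChar χ.2) H) hχ1'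
  have hli : IsIrrCharacter H μ := isChar_linear_isIrr hμ hμ1
  have heq : μ = fun a : H => (χ : G → ℂ) a := by
    by_contra hne
    exact hχ (classInner_irr_ne hli hr hne)
  intro h
  rw [heq]

end

end Cfsg.Agent.Lib.Helper5
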