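import Cfsg.Agent.S0915
import Cfsg.Agent.Lib.Helper51.BlockCol
import Cfsg.Agent.Lib.Helper21.Quot
import Cfsg.Agent.Lib.Helper60.Cores
import Cfsg.Agent.Lib.Helper14.PSeries
import Cfsg.Agent.Lib.Helper82.CharKer

set_option autoImplicit false

namespace Cfsg.Agent.Lib.Helper5

open Cfsg Cfsg.Agent.Lib.Helper82

/-- Fong: the principal `p`-block of a `p`-solvable group is `Irr(G / O_{p'}(G))`. -/
theorem mem_principalBlock_iff_of_isPSolvable {G : Type*} [Group G] [Finite G] {p : ℕ}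
    [Fact p.Prime] {M : Ideal AlgInt} (hM : IsPModular p M) (hsolv : IsPSolvable p G)
    (χ : IrrCharacter G) :
    χ ∈ principalBlock M G ↔ ∀ n ∈ pPrimeCore p G, (χ : G → ℂ) n = (χ : G → ℂ) 1 := by
  constructor
  · intro h n hn
    exact Cfsg.Agent.Lib.Helper51.principal_ker hM χ h n hn
  · intro h
    obtain ⟨ψ, hψ, hψχ⟩ := isIrr_deflate χ.2 (pPrimeCore p G) h
    have h1 := Cfsg.Agent.S0915.result p M hM
      (Cfsg.Agent.Lib.Helper14.IsPSolvable.quotient hsolv (pPrimeCore p G))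
      (Cfsg.Agent.Lib.Helper60.pPrimeCore_quotient p) (Cfsg.Agent.Lib.Helper51.oneIrr _) ⟨ψ, hψ⟩
    have h2 := Cfsg.Agent.Lib.Helper21.sameBlock_inflate hM (pPrimeCore p G) h1
    have e : (χ : G → ℂ) = ψ ∘ QuotientGroup.mk := by
      funext g
      exact (hψχ g).symm
    show SameBlock M (fun _ : G => (1 : ℂ)) (χ : G → ℂ)
    rw [e]
    exact h2

end Cfsg.Agent.Lib.Helper5
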